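import Cfsg.Agent.H709.UX.Gen
import Cfsg.Agent.H141.Ux.Defs

/-!
# S5716, UF1 (growth, symplectic groups, characteristic two), part 2 (helper709)

`Cv Φ Q π r` : `U` with the quadratic form `Q` is the odd dimensional orthogonal space over the symplectic space `V`
(characteristic two): `π : U → V` has the kernel `⟨r⟩`, `Q r = 1`, `polar Q` is the pull-back of the symplectic form.
`Hl Q π H` : the preimage of `H ≤ Sp(V)` in `O(U)`.
-/

set_option autoImplicit false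

namespace Cfsg.Agent.H709.UX

open QuadraticMap Cfsg.Agent.LieClassical.OrthCore Cfsg.Agent.LieClassical.OrthTrans
  Cfsg.Agent.LieClassical.OrthFinite Cfsg.Agent.H883.Root Cfsg.Agent.H883.Sub Cfsg.Agent.H847.Bs
  Cfsg.Agent.H984.Bs Module
open Cfsg.Agent.H24.Bs (Cen Ctr B_zero_left B_zero_right B_swap B_smul_right bil bil_alt blk_of_max)
open Cfsg.Agent.H141.Ux (sr HasS)

variable {F V U : Type*} [Field F] [AddCommGroup V] [Module F V] [AddCommGroup U] [Module F U]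

/-- `U` is the odd dimensional orthogonal space over the symplectic space `V` (characteristic two) -/
structure Cv (Φ : Frm F V) (Q : QuadraticForm F U) (π : U →ₗ[F] V) (r : U) : Prop where
  pol : ∀ x y, polar Q x y = Φ.B (π x) (π y)
  ker : ∀ x, π x = 0 → ∃ c : F, x = c • r
  Qr : Q r = 1
  pr : π r = 0
  lift : ∀ v, ∃ x, π x = v ∧ Q x = 0
  glift : ∀ h ∈ Φ.Iso, ∃ g ∈ O Q, ∀ x, π (g x) = h (π x)

/-- the subgroup of `O(Q)` over `H` -/
def Hl (Q : QuadraticForm F U) (π : U →ₗ[F] V) (H : Subgroup (V ≃ₗ[F] V)) : Subgroup (U ≃ₗ[F] U) where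
  carrier := {g | g ∈ O Q ∧ ∃ h ∈ H, ∀ x, π (g x) = h (π x)}
  mul_mem' := by
    rintro a b ⟨ha, h, hh, e⟩ ⟨hb, h', hh', e'⟩
    refine ⟨(O Q).mul_mem ha hb, h * h', H.mul_mem hh hh', fun x => ?_⟩
    show π (a (b x)) = h (h' (π x))
    rw [e, e']
  one_mem' := ⟨(O Q).one_mem, 1, H.one_mem, fun _ => rfl⟩
  inv_mem' := by
    rintro a ⟨ha, h, hh, e⟩
    refine ⟨(O Q).inv_mem ha, h⁻¹, H.inv_mem hh, fun x => ?_⟩
    show π (a.symm x) = h.symm (π x)
    rw [LinearEquiv.eq_symm_apply, ← e, LinearEquiv.apply_symm_apply]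

/-- the image in `GL(V)` of a subgroup of `GL(U)` -/
def dn (π : U →ₗ[F] V) (R : Subgroup (U ≃ₗ[F] U)) : Subgroup (V ≃ₗ[F] V) where
  carrier := {h | ∃ g ∈ R, ∀ x, π (g x) = h (π x)}
  mul_mem' := by
    rintro a b ⟨g, hg, e⟩ ⟨g', hg', e'⟩
    refine ⟨g * g', R.mul_mem hg hg', fun x => ?_⟩
    show π (g (g' x)) = a (b (π x))
    rw [e, e']
  one_mem' := ⟨1, R.one_mem, fun _ => rfl⟩
  inv_mem' := by
    rintro a ⟨g, hg, e⟩
    refine ⟨g⁻¹, R.inv_mem hg, fun x => ?_⟩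
    show π (g.symm x) = a.symm (π x)
    rw [LinearEquiv.eq_symm_apply, ← e, LinearEquiv.apply_symm_apply]

variable {Φ : Frm F V} {Q : QuadraticForm F U} {π : U →ₗ[F] V} {r : U} {H : Subgroup (V ≃ₗ[F] V)}

theorem Hl_le : Hl Q π H ≤ O Q := fun _ hg => hg.1

section basic

variable (C : Cv Φ Q π r)
include C

theorem Cv.inj {W : Submodule F U} (hW : NondegOn Q W) {x : U} (hx : x ∈ W) (h0 : π x = 0) : x = 0 :=
  hW x hx fun z _ => by rw [C.pol, h0, B_zero_left]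

theorem Cv.ndOn {W : Submodule F U} (hW : NondegOn Q W) : Φ.NdOn (W.map π) := by
  rintro _ ⟨x, hx, rfl⟩ hx'
  rw [hW x hx fun z hz => ?_, map_zero]
  rw [C.pol]
  exact hx' _ ⟨z, hz, rfl⟩

theorem Cv.finrank_map [FiniteDimensional F U] {W : Submodule F U} (hW : NondegOn Q W) :
    finrank F (W.map π) = finrank F W := by
  have h1 : Function.Injective (π.domRestrict W) := by
    rw [injective_iff_map_eq_zero]
    intro x hx
    exact Subtype.ext (C.inj hW x.2 hx)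
  rw [← LinearMap.range_domRestrict, LinearMap.finrank_range_of_inj h1]

theorem Cv.map_siegel {u w : U} (hu : Q u = 0) (hw : polar Q u w = 0) (x : U) :
    π (siegel Q u w hu hw x) = π x + Φ.B (π u) (π x) • π w - Φ.B (π w) (π x) • π u -
      (Q w * Φ.B (π u) (π x)) • π u := by
  rw [siegel_apply, C.pol, C.pol, map_sub, map_sub, map_add, map_smul, map_smul, map_smul]

end basic

/-- squares in a finite field of characteristic two -/
theorem exists_sq [Finite F] (h2 : (2 : F) = 0) (a : F) : ∃ c : F, a = c * c := by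
  have : CharP F 2 := CharTwo.of_one_ne_zero_of_two_eq_zero one_ne_zero h2
  exact FiniteField.isSquare_of_char_two (ringChar.eq F 2) a

theorem neg_eq' (h2 : (2 : F) = 0) (a : F) : -a = a := by linear_combination (-a) * h2

theorem B_comm (hΦ : IsSp Φ) (h2 : (2 : F) = 0) (x y : V) : Φ.B x y = Φ.B y x := by
  rw [B_swap hΦ, neg_eq' h2]

theorem neg_eq_V (h2 : (2 : F) = 0) (v : V) : -v = v := by
  have h1 : (-1 : F) = 1 := by linear_combination (-1 : F) * h2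
  rw [← neg_one_smul F v, h1, one_smul]

/-! ### the lift of the pair `(W, q)` -/

theorem Cv.exists_W (C : Cv Φ Q π r) {q : V → F} {W : Submodule F V}
    (hq1 : ∀ u ∈ W, ∀ w ∈ W, q (u + w) = q u + q w + Φ.B u w)
    (hq2 : ∀ (a : F), ∀ w ∈ W, q (a • w) = a ^ 2 * q w) :
    ∃ Y : Submodule F U, ∀ x, x ∈ Y ↔ π x ∈ W ∧ Q x = q (π x) := by
  refine ⟨{ carrier := {x | π x ∈ W ∧ Q x = q (π x)}, add_mem' := ?_, zero_mem' := ?_, smul_mem' := ?_ },
    fun x => Iff.rfl⟩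
  · rintro x y ⟨hx, hx'⟩ ⟨hy, hy'⟩
    refine ⟨by rw [map_add]; exact W.add_mem hx hy, ?_⟩
    rw [Q_add, map_add, hq1 _ hx _ hy, hx', hy', C.pol]
  · refine ⟨by rw [map_zero]; exact W.zero_mem, ?_⟩
    have h := hq2 0 0 W.zero_mem
    rw [smul_zero] at h
    rw [QuadraticMap.map_zero, map_zero, h]
    ring
  · rintro c x ⟨hx, hx'⟩
    refine ⟨by rw [map_smul]; exact W.smul_mem _ hx, ?_⟩
    rw [QuadraticMap.map_smul, map_smul, hq2 _ _ hx, hx', smul_eq_mul]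
    ring

theorem Cv.polar_r (C : Cv Φ Q π r) (x : U) : polar Q x r = 0 := by
  have h := C.pol r x
  rw [C.pr, B_zero_left] at h
  rw [polar_comm, h]

theorem Cv.map_W [Finite F] (C : Cv Φ Q π r) (h2 : (2 : F) = 0) {q : V → F} {W : Submodule F V} {Y : Submodule F U}
    (hY : ∀ x, x ∈ Y ↔ π x ∈ W ∧ Q x = q (π x)) : Y.map π = W := by
  apply le_antisymm
  · rintro _ ⟨x, hx, rfl⟩
    exact ((hY x).1 hx).1
  · intro w hw
    obtain ⟨x, rfl, hx⟩ := C.lift w
    obtain ⟨c, hc⟩ := exists_sq h2 (q (π x))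
    have e : π (x + c • r) = π x := by rw [map_add, map_smul, C.pr, smul_zero, add_zero]
    refine ⟨x + c • r, (hY _).2 ⟨by rw [e]; exact hw, ?_⟩, e⟩
    rw [e, Q_add, hx, QuadraticMap.map_smul, C.Qr, polar_smul_right, C.polar_r, hc]
    simp

theorem Cv.nondegOn_W (C : Cv Φ Q π r) {q : V → F} {W : Submodule F V} (hW : Φ.NdOn W)
    {Y : Submodule F U} (hY : ∀ x, x ∈ Y ↔ π x ∈ W ∧ Q x = q (π x)) (hm : Y.map π = W) : NondegOn Q Y := by
  intro x hx hx'
  have h1 : π x = 0 := by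
    refine hW _ ((hY x).1 hx).1 fun w hw => ?_
    rw [← hm] at hw
    obtain ⟨y, hy, rfl⟩ := hw
    rw [← C.pol]
    exact hx' y hy
  obtain ⟨c, hc⟩ := C.ker x h1
  have h0 := (hY 0).1 Y.zero_mem
  rw [map_zero, QuadraticMap.map_zero] at h0
  have h3 := ((hY x).1 hx).2
  rw [h1, ← h0.2, hc, QuadraticMap.map_smul, C.Qr, smul_eq_mul, mul_one, mul_self_eq_zero] at h3
  rw [hc, h3, zero_smul]

theorem Cv.hasW [Finite F] [FiniteDimensional F U] (C : Cv Φ Q π r) (hΦ : IsSp Φ) (h2 : (2 : F) = 0)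
    {Y : Submodule F U} (hY : NondegOn Q Y) (hd : 5 ≤ finrank F Y)
    (hs : ∀ s ∈ Y, ∀ t ∈ Y, Q s = 0 → Q t = 0 → polar Q s t = 0 →
      ∃ g ∈ H, (g : V →ₗ[F] V) = sr Φ (π s) (π t)) : HasW Q (Hl Q π H) Y := by
  have hG : Good (res Q Y) := good_res hY hd
  have hE : E (res Q Y) ≤ resG Q (Hl Q π H) Y := by
    refine E_le_of_sing hG fun u w hu hw hp => has_resG ?_
    obtain ⟨g, hg, e⟩ := hs u u.2 w w.2 hu hw hp
    have hu' : Q (u : U) = 0 := hu
    have hw' : Q (w : U) = 0 := hw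
    have hp' : polar Q (u : U) (w : U) = 0 := hp
    refine ⟨hu', hp', siegel_mem_O _ _, g, hg, fun x => ?_⟩
    rw [C.map_siegel]
    have h3 : g (π x) = π x + Φ.B (π x) (π u) • π w + Φ.B (π x) (π w) • π u := LinearMap.congr_fun e (π x)
    rw [h3, B_comm hΦ h2 (π x) (π u), B_comm hΦ h2 (π x) (π w), hw', zero_mul, zero_smul, sub_zero, sub_eq_add_neg,
      neg_eq_V h2]
  intro u hu w hw hQu huw
  have h1 : Has (res Q Y) (E (res Q Y)) ⟨u, hu⟩ ⟨w, hw⟩ := has_E hQu huw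
  exact has_of_resG hY (h1.mono hE)

/-! ### transvections -/

theorem Cv.cen_of_sing [Finite F] (C : Cv Φ Q π r) (h2 : (2 : F) = 0) {x : U}
    (hr : ∀ c : F, Has Q (Hl Q π H) x (c • r)) : Cen Φ H (π x) := by
  intro a
  obtain ⟨c, hc⟩ := exists_sq h2 a
  obtain ⟨h1, h3, -, g, hg, e⟩ := hr c
  refine ⟨g, hg, fun v => ?_⟩
  obtain ⟨y, rfl, -⟩ := C.lift v
  rw [← e, C.map_siegel, map_smul, C.pr, smul_zero, smul_zero, B_zero_left, zero_smul, QuadraticMap.map_smul, C.Qr,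
    sub_eq_add_neg, neg_eq_V h2, smul_eq_mul, mul_one, ← hc, add_zero, sub_zero]

/-- singular vectors which are not orthogonal to a given vector -/
theorem exists_sing_ne [Finite F] {Y : Submodule F U} (hY : NondegOn Q Y) (hd : 5 ≤ finrank F Y) {y : U} (hy : y ∈ Y)
    (hy0 : y ≠ 0) : ∃ x ∈ Y, Q x = 0 ∧ polar Q x y ≠ 0 := by
  by_contra hcon
  push Not at hcon
  apply hy0
  have hG : Good (res Q Y) := good_res hY hd
  obtain ⟨x, x', hxx⟩ := hG.exists_hyp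
  refine hY y hy fun z hz => ?_
  rw [polar_comm]
  exact sing_induction hxx (P := fun v : Y => polar Q (v : U) y = 0)
    (fun a c ha hc => by
      show polar Q ((a : U) + (c : U)) y = 0
      rw [polar_add_left, ha, hc, add_zero])
    (fun a ha => hcon a a.2 ha) ⟨z, hz⟩

theorem Cv.ctr [Finite F] [FiniteDimensional F U] (C : Cv Φ Q π r) (h2 : (2 : F) = 0) (hH : H ≤ Φ.Iso)
    {Y : Submodule F U} (hY : NondegOn Q Y) (hd : 5 ≤ finrank F Y) (hr : r ∈ PP Q (Hl Q π H) Y) :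
    Ctr Φ H (Y.map π) := by
  have hs : ∀ x ∈ Y, Q x = 0 → Cen Φ H (π x) := fun x hx hQx => C.cen_of_sing h2 (hr.2 x hx hQx)
  refine ⟨C.ndOn hY, ?_⟩
  rintro _ ⟨y, hy, rfl⟩
  by_cases hy0 : y = 0
  · rw [hy0]
    exact hs 0 Y.zero_mem (QuadraticMap.map_zero Q)
  obtain ⟨x, hx, hQx, hxy⟩ := exists_sing_ne hY hd hy hy0
  -- the transvection
  obtain ⟨t, ht, et⟩ := hs x hx hQx (Q y * (polar Q x y)⁻¹ * (polar Q x y)⁻¹)
  have hy1 : y + (Q y * (polar Q x y)⁻¹) • x ∈ Y := Y.add_mem hy (Y.smul_mem _ hx)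
  have hQ1 : Q (y + (Q y * (polar Q x y)⁻¹) • x) = 0 := by
    rw [Q_add, QuadraticMap.map_smul, hQx, smul_zero, add_zero, polar_smul_right, polar_comm Q y x, smul_eq_mul,
      mul_assoc, inv_mul_cancel₀ hxy, mul_one]
    linear_combination (Q y) * h2
  have h3 := hs _ hy1 hQ1
  have e : t (π y) = π (y + (Q y * (polar Q x y)⁻¹) • x) := by
    rw [et, map_add, map_smul, ← C.pol, mul_assoc, inv_mul_cancel₀ hxy, mul_one]
  rw [← e] at h3
  have h4 := h3.map hH (H.inv_mem ht)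
  have e2 : t⁻¹ (t (π y)) = π y := t.symm_apply_apply _
  rwa [e2] at h4

theorem gen_of_ctr [FiniteDimensional F V] (hΦ : IsSp Φ) (hH : H ≤ Φ.Iso) (hirr : IrrG H) {W : Submodule F V}
    (hWc : Ctr Φ H W) (hW : 4 ≤ finrank F W) : Φ.Iso ≤ H ∨ ∃ D : Submodule F V, Blk Φ H D ∧ W ≤ D := by
  have hwf : WellFounded (fun a b : Submodule F V => a > b) := wellFounded_gt
  obtain ⟨D, ⟨hWD, hD⟩, hmax⟩ := hwf.has_min {D : Submodule F V | W ≤ D ∧ Ctr Φ H D} ⟨W, le_rfl, hWc⟩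
  have hmax' : ∀ D' : Submodule F V, D < D' → ¬ Ctr Φ H D' := fun D' h1 h2 =>
    hmax D' ⟨hWD.trans h1.le, h2⟩ h1
  have hfin := Submodule.finrank_mono hWD
  have hD0 : D ≠ ⊥ := by
    intro h
    rw [h, finrank_bot] at hfin
    omega
  by_cases hT : D = ⊤
  · left
    intro g hg
    refine Cfsg.Agent.H743.McL.mem_of_isometry (bil hΦ) (bil_alt hΦ) (fun x h => hΦ.nd x h) H (fun a c => ?_) g hg.1
    exact hD.cen a (by rw [hT]; trivial) c
  · right
    exact ⟨D, blk_of_max hΦ hH hirr hD (Or.inr (hW.trans hfin)) hD0 hmax' hT, hWD⟩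

end Cfsg.Agent.H709.UX
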