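import Cfsg.Agent.H709.UX.Cover

/-!
# S5716, UF1 (growth, symplectic groups, characteristic two), part 3 (helper709)

`Cv.main` : `uf1` from the odd dimensional orthogonal space; `exists_cv` : construction of that space.
-/

set_option autoImplicit false

namespace Cfsg.Agent.H709.UX

open QuadraticMap Cfsg.Agent.LieClassical.OrthCore Cfsg.Agent.LieClassical.OrthTrans
  Cfsg.Agent.LieClassical.OrthFinite Cfsg.Agent.H883.Root Cfsg.Agent.H883.Sub Cfsg.Agent.H847.Bs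
  Cfsg.Agent.H984.Bs Module
open Cfsg.Agent.H24.Bs (Cen Ctr B_zero_left B_zero_right B_swap B_smul_right bil bil_alt blk_of_max)
open Cfsg.Agent.H141.Ux (sr HasS)

variable {F V U : Type*} [Field F] [AddCommGroup V] [Module F V] [AddCommGroup U] [Module F U]
  {Φ : Frm F V} {Q : QuadraticForm F U} {π : U →ₗ[F] V} {r : U} {H : Subgroup (V ≃ₗ[F] V)}

theorem Cv.exists_lift (C : Cv Φ Q π r) (hH : H ≤ Φ.Iso) {h : V ≃ₗ[F] V} (hh : h ∈ H) :
    ∃ g ∈ Hl Q π H, ∀ x, π (g x) = h (π x) := by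
  obtain ⟨g, hg, e⟩ := C.glift h (hH hh)
  exact ⟨g, ⟨hg, h, hh, e⟩, e⟩

theorem Cv.RR_conj (C : Cv Φ Q π r) (hH : H ≤ Φ.Iso) {h k : V ≃ₗ[F] V} (hh : h ∈ H)
    (hk : k ∈ dn π (RR Q (Hl Q π H))) : h⁻¹ * k * h ∈ dn π (RR Q (Hl Q π H)) := by
  obtain ⟨g, hg, e⟩ := hk
  obtain ⟨g₀, hg₀, e₀⟩ := C.exists_lift hH (H.inv_mem hh)
  refine ⟨g₀ * g * g₀⁻¹, Cfsg.Agent.H984.Bs.RR_conj Hl_le hg₀ hg, fun x => ?_⟩
  have h1 : π (g₀⁻¹ x) = h (π x) := by
    have h2 := e₀ (g₀⁻¹ x)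
    have h3 : g₀ (g₀⁻¹ x) = x := g₀.apply_symm_apply x
    rw [h3] at h2
    rw [h2]
    exact (h.apply_symm_apply _).symm
  show π (g₀ (g (g₀⁻¹ x))) = h⁻¹ (k (h (π x)))
  rw [e₀, e, h1]

theorem Cv.PP_bot [Finite F] [FiniteDimensional F U] [FiniteDimensional F V] (C : Cv Φ Q π r)
    (hH : H ≤ Φ.Iso) (hirr : IrrG H) {W : Submodule F U} (hW : NondegOn Q W) (hd8 : 8 ≤ finrank F W)
    (hasW : HasW Q (Hl Q π H) W) (hiso : ∀ p ∈ PP Q (Hl Q π H) W, ∀ p' ∈ PP Q (Hl Q π H) W, polar Q p p' = 0)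
    (hr : r ∉ PP Q (Hl Q π H) W) : PP Q (Hl Q π H) W = ⊥ := by
  have hinv := RR_inv_PP (Hl_le (Q := Q) (π := π) (H := H)) hW hd8 hasW hiso
  obtain ⟨K, hK, hcomp⟩ := exists_compl (H := H) (R := dn π (RR Q (Hl Q π H))) (fun h hh k hk => C.RR_conj hH hh hk)
    hirr (P := (PP Q (Hl Q π H) W).map π) (by
      rintro k ⟨g, hg, e⟩ _ ⟨p, hp, rfl⟩
      exact ⟨g p, hinv g hg p hp, e p⟩)
  have hdn : ∀ {s t : U} (h : Lr Q (Hl Q π H) s t), ∃ k ∈ dn π (RR Q (Hl Q π H)),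
      ∀ x, π (siegel Q s t h.1 h.2.2.1 x) = k (π x) := by
    intro s t h
    obtain ⟨-, k, hk, e⟩ := (h.2.2.2 1).congr rfl (one_smul F t) |>.mem h.1 h.2.2.1
    exact ⟨k, ⟨_, mem_RR h, e⟩, e⟩
  -- singular vectors of `W` are in `K`
  have hsing : ∀ x ∈ W, Q x = 0 → π x ∈ K := by
    intro x hx hQx
    have h1 := finrank_span_single_le (F := F) x
    have hxW : Submodule.span F {x} ≤ W := by
      rw [Submodule.span_le, Set.singleton_subset_iff]; exact hx
    obtain ⟨y, hy, hyo, hyn, hQy⟩ := ex_sing_in hW (Submodule.span F {x}) (Submodule.span F {x}) hxW (by omega)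
    have hxy := hyo x (Submodule.mem_span_singleton_self x)
    obtain ⟨v, hv, hv1, hv2⟩ := sep_in hW hxW hy hyn
    have hxv := hv1 x (Submodule.mem_span_singleton_self x)
    have hL := hasW.lr hx hy hQx hQy hxy
    obtain ⟨k, hk, ek⟩ := hdn hL
    obtain ⟨_, ⟨p, hp, rfl⟩, c, hc, e⟩ : ∃ p ∈ (PP Q (Hl Q π H) W).map π, ∃ c ∈ K, p + c = π v := by
      have : π v ∈ (PP Q (Hl Q π H) W).map π ⊔ K := by rw [hcomp.sup_eq_top]; exact Submodule.mem_top
      exact Submodule.mem_sup.1 this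
    have hgv : siegel Q x y hL.1 hL.2.2.1 v = v - polar Q y v • x := by
      rw [siegel_apply, hxv]
      simp
    have hgp : siegel Q x y hL.1 hL.2.2.1 p = p :=
      siegel_fix _ _ (mem_perp.1 hp.1 x hx) (mem_perp.1 hp.1 y hy)
    have h3 := ek v
    rw [hgv, ← e, map_add, ← ek p, hgp, map_sub, map_smul, ← e] at h3
    have h4 : polar Q y v • π x = c - k c := by
      have h5 : π p + c - polar Q y v • π x = π p + k c := h3
      have h6 : polar Q y v • π x = (π p + c) - (π p + k c) := by rw [← h5]; abel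
      rw [h6]; abel
    have h7 : π x = (polar Q y v)⁻¹ • (c - k c) := by rw [← h4, smul_smul, inv_mul_cancel₀ hv2, one_smul]
    rw [h7]
    exact K.smul_mem _ (K.sub_mem hc (hK k hk c hc))
  have hG : Good (res Q W) := good_res hW (by omega)
  obtain ⟨x, x', hxx⟩ := hG.exists_hyp
  have hWC : ∀ v ∈ W, π v ∈ K := by
    intro v hv
    exact sing_induction hxx (P := fun v : W => π (v : U) ∈ K)
      (fun a c ha hc => by
        show π ((a : U) + (c : U)) ∈ K
        rw [map_add]; exact K.add_mem ha hc)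
      (fun a ha => hsing a a.2 ha) ⟨v, hv⟩
  obtain ⟨z, w, hzw, hxz, hxw, hx'z, hx'w⟩ := hG.exists_hyp2 hxx
  rw [eq_bot_iff]
  intro p hp
  -- `y = p + (z - Q p w)` is singular and orthogonal to `x`
  have hzw1 : polar Q (z : U) (w : U) = 1 := hzw.pair
  have hQz : Q (z : U) = 0 := hzw.left
  have hQw : Q (w : U) = 0 := hzw.right
  have hxx1 : polar Q (x : U) (x' : U) = 1 := hxx.pair
  have hQx : Q (x : U) = 0 := hxx.left
  have hxz' : polar Q (x : U) (z : U) = 0 := hxz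
  have hxw' : polar Q (x : U) (w : U) = 0 := hxw
  set y1 : U := (z : U) - Q p • (w : U) with hy1
  have hy1W : y1 ∈ W := W.sub_mem z.2 (W.smul_mem _ w.2)
  have hQy1 : Q y1 = - Q p := by
    rw [hy1, sub_eq_add_neg, Q_add, QuadraticMap.map_neg, QuadraticMap.map_smul, hQz, hQw, polar_neg_right,
      polar_smul_right, hzw1]
    simp
  have hxy1 : polar Q (x : U) y1 = 0 := by
    rw [hy1, polar_sub_right, polar_smul_right, hxz', hxw', smul_zero, sub_zero]
  have hxp : polar Q (x : U) p = 0 := mem_perp.1 hp.1 x x.2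
  have hL : Lr Q (Hl Q π H) (x : U) (p + y1) := by
    refine ⟨hQx, ?_, ?_, fun c => ?_⟩
    · rw [Q_add, hQy1, polar_comm, mem_perp.1 hp.1 y1 hy1W]
      ring
    · rw [polar_add_right, hxp, hxy1, add_zero]
    · rw [smul_add]
      refine (hp.2 x x.2 hQx c).add (hasW x x.2 _ (W.smul_mem _ hy1W) hQx ?_)
      rw [polar_smul_right, hxy1, smul_zero]
  obtain ⟨k, hk, ek⟩ := hdn hL
  have h1 := hK k hk (π x') (hWC x' x'.2)
  rw [← ek, siegel_apply, hL.2.1, zero_mul, zero_smul, sub_zero, hxx1, one_smul, map_sub, map_add, map_add,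
    map_smul] at h1
  have h2 : π p ∈ K := by
    have h3 : π p = (π (x' : U) + (π p + π y1) - polar Q (p + y1) (x' : U) • π (x : U)) - π (x' : U) - π y1 +
        polar Q (p + y1) (x' : U) • π (x : U) := by abel
    rw [h3]
    exact K.add_mem (K.sub_mem (K.sub_mem h1 (hWC x' x'.2)) (hWC y1 hy1W)) (K.smul_mem _ (hWC x x.2))
  have h3 : π p ∈ (PP Q (Hl Q π H) W).map π ⊓ K := ⟨⟨p, hp, rfl⟩, h2⟩
  rw [hcomp.inf_eq_bot, Submodule.mem_bot] at h3
  obtain ⟨c, hc⟩ := C.ker p h3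
  by_cases hc0 : c = 0
  · rw [hc, hc0, zero_smul]; exact Submodule.zero_mem _
  · exfalso
    apply hr
    have h4 := (PP Q (Hl Q π H) W).smul_mem c⁻¹ hp
    rwa [hc, smul_smul, inv_mul_cancel₀ hc0, one_smul] at h4

/-- `E Q₀ ≤ Sp` -/
theorem E_le_iso (hΦ : IsSp Φ) {Q₀ : QuadraticForm F V} (hQ₀ : ∀ u v, polar Q₀ u v = Φ.B u v) : E Q₀ ≤ Φ.Iso := by
  intro g hg
  have h1 := E_le_O hg
  exact ⟨fun x y => by rw [← hQ₀, ← hQ₀, polar_map h1], fun x => by rw [hΦ.q, hΦ.q]⟩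

theorem Cv.main [Finite F] [FiniteDimensional F U] [FiniteDimensional F V] (C : Cv Φ Q π r) (hΦ : IsSp Φ)
    (h2 : (2 : F) = 0) {Q₀ : QuadraticForm F V} (hQ₀ : ∀ u v, polar Q₀ u v = Φ.B u v)
    (hH : H ≤ Φ.Iso) (hirr : IrrG H) {q : V → F} {W₀ : Submodule F V} (hW₀ : Φ.NdOn W₀) (hd : 8 ≤ finrank F W₀)
    (hS : HasS Φ q H W₀) :
    (∃ Q : QuadraticForm F V, (∀ u v, QuadraticMap.polar Q u v = Φ.B u v) ∧ E Q ≤ H) ∨
      ∃ D : Submodule F V, Blk Φ H D ∧ 8 ≤ finrank F D := by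
  obtain ⟨hq1, hq2, hs⟩ := hS
  obtain ⟨Y₀, hY₀⟩ := C.exists_W hq1 hq2
  have hm := C.map_W h2 hY₀
  have hn := C.nondegOn_W hW₀ hY₀ hm
  have hf : finrank F Y₀ = finrank F W₀ := by rw [← hm, C.finrank_map hn]
  have hh : HasW Q (Hl Q π H) Y₀ := by
    refine C.hasW hΦ h2 hn (by omega) fun s hsY t htY hQs hQt hst => ?_
    refine hs (π s) ((hY₀ s).1 hsY).1 (π t) ((hY₀ t).1 htY).1 ?_ ?_ ?_
    · rw [← ((hY₀ s).1 hsY).2, hQs]
    · rw [← ((hY₀ t).1 htY).2, hQt]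
    · rw [← C.pol, hst]
  have wf : WellFounded ((· > ·) : Submodule F U → Submodule F U → Prop) := wellFounded_gt
  obtain ⟨W, ⟨hW, hasW, hd8⟩, hmax⟩ := wf.has_min
    {W : Submodule F U | NondegOn Q W ∧ HasW Q (Hl Q π H) W ∧ 8 ≤ finrank F W} ⟨Y₀, hn, hh, by omega⟩
  have hmax' : ∀ W' : Submodule F U, NondegOn Q W' → HasW Q (Hl Q π H) W' → W ≤ W' → W' = W := by
    intro W' h1 h2 h3
    by_contra hne
    exact hmax W' ⟨h1, h2, hd8.trans (Submodule.finrank_mono h3)⟩ (lt_of_le_of_ne h3 (Ne.symm hne))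
  have hiso := iso_of_max hW (by omega) hasW hmax'
  by_cases hr : r ∈ PP Q (Hl Q π H) W
  · -- `H` contains transvections
    have h1 := C.ctr h2 hH hW (by omega) hr
    have h3 := C.finrank_map hW
    rcases gen_of_ctr hΦ hH hirr h1 (by omega) with h4 | ⟨D, h4, h5⟩
    · exact Or.inl ⟨Q₀, hQ₀, (E_le_iso hΦ hQ₀).trans h4⟩
    · exact Or.inr ⟨D, h4, by have := Submodule.finrank_mono h5; omega⟩
  have hbot := C.PP_bot hH hirr hW hd8 hasW hiso hr
  by_cases htop : W.map π = ⊤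
  · left
    have hinj : Function.Injective (π.domRestrict W) := by
      rw [injective_iff_map_eq_zero]
      intro x hx
      exact Subtype.ext (C.inj hW x.2 hx)
    have hsur : Function.Surjective (π.domRestrict W) := by
      rw [← LinearMap.range_eq_top, LinearMap.range_domRestrict, htop]
    set e : W ≃ₗ[F] V := LinearEquiv.ofBijective (π.domRestrict W) ⟨hinj, hsur⟩ with he
    have hπ : ∀ v, π (e.symm v : U) = v := fun v => e.apply_symm_apply v
    refine ⟨(res Q W).comp (e.symm : V →ₗ[F] W), fun u v => ?_, ?_⟩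
    · have h1 : polar ((res Q W).comp (e.symm : V →ₗ[F] W)) u v = polar Q (e.symm u : U) (e.symm v : U) := by
        simp only [polar, QuadraticMap.comp_apply, LinearEquiv.coe_coe, res_apply, map_add, Submodule.coe_add]
      rw [h1, C.pol, hπ, hπ]
    · rw [E, Subgroup.closure_le]
      rintro _ ⟨u, w, hu, hw, rfl⟩
      have hpol : ∀ u v, polar ((res Q W).comp (e.symm : V →ₗ[F] W)) u v = polar Q (e.symm u : U) (e.symm v : U) := by
        intro u v
        simp only [polar, QuadraticMap.comp_apply, LinearEquiv.coe_coe, res_apply, map_add, Submodule.coe_add]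
      have hu' : Q (e.symm u : U) = 0 := hu
      have hw' : polar Q (e.symm u : U) (e.symm w : U) = 0 := by rw [← hpol]; exact hw
      obtain ⟨-, k, hk, ek⟩ := (hasW _ (e.symm u).2 _ (e.symm w).2 hu' hw').mem hu' hw'
      have e1 : siegel ((res Q W).comp (e.symm : V →ₗ[F] W)) u w hu hw = k := by
        ext v
        have h3 := ek (e.symm v)
        rw [hπ, siegel_apply, map_sub, map_sub, map_add, map_smul, map_smul, map_smul, hπ, hπ, hπ] at h3
        rw [← h3, siegel_apply, hpol, hpol]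
        rfl
      rw [e1]
      exact hk
  · right
    refine ⟨W.map π, ⟨htop, C.ndOn hW, fun h hh => ?_⟩, by rw [C.finrank_map hW]; exact hd8⟩
    obtain ⟨g, hg, eg⟩ := C.exists_lift hH hh
    rcases block Hl_le hW hd8 hasW hbot hg with h1 | h1
    · left
      refine Submodule.eq_of_le_of_finrank_eq ?_ ?_
      · rintro _ ⟨_, ⟨x, hx, rfl⟩, rfl⟩
        exact ⟨g x, h1 x hx, eg x⟩
      · exact LinearEquiv.finrank_map_eq h _
    · right
      rintro _ ⟨_, ⟨x, hx, rfl⟩, rfl⟩ _ ⟨y, hy, rfl⟩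
      show Φ.B (h (π x)) (π y) = 0
      rw [← eg, ← C.pol, polar_comm]
      exact mem_perp.1 (h1 x hx) y hy

end Cfsg.Agent.H709.UX
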