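import Cfsg.Agent.H709.UX.Main

/-!
# S5716, UF1 (growth, symplectic groups, characteristic two), part 4 (helper709)

`exists_cv` : the odd dimensional orthogonal space over a symplectic space; `growth` : the theorem.
-/

set_option autoImplicit false

namespace Cfsg.Agent.H709.UX

open QuadraticMap Cfsg.Agent.LieClassical.OrthCore Cfsg.Agent.H847.Bs Module
open Cfsg.Agent.H24.Bs (B_zero_left B_zero_right B_swap B_smul_right bil bil_alt)
open Cfsg.Agent.H141.Ux (sr HasS)

variable {F V : Type*} [Field F] [AddCommGroup V] [Module F V] {Φ : Frm F V} {H : Subgroup (V ≃ₗ[F] V)}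

/-- a quadratic form with given alternating polar form (characteristic two) -/
theorem exists_quad [FiniteDimensional F V] (h2 : (2 : F) = 0) (B : V →ₗ[F] V →ₗ[F] F) (halt : ∀ x, B x x = 0) :
    ∃ Q : QuadraticForm F V, ∀ x y, polar Q x y = B x y := by
  have hsymm : ∀ x y, B x y = B y x := by
    intro x y
    have h1 := halt (x + y)
    simp only [map_add, LinearMap.add_apply, halt, zero_add, add_zero] at h1
    linear_combination h1 - (B y x) * h2
  let b := Module.finBasis F V
  let C : V →ₗ[F] V →ₗ[F] F := b.constr F fun i => b.constr F fun j => if i < j then B (b i) (b j) else 0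
  have hC : ∀ i j, C (b i) (b j) = if i < j then B (b i) (b j) else 0 := by
    intro i j
    simp only [C, Basis.constr_basis]
  have hCB : C + C.flip = B := by
    refine b.ext fun i => b.ext fun j => ?_
    rw [LinearMap.add_apply, LinearMap.add_apply, LinearMap.flip_apply, hC, hC]
    rcases lt_trichotomy i j with h | h | h
    · rw [if_pos h, if_neg (not_lt.2 h.le), add_zero]
    · rw [h, if_neg (lt_irrefl _), add_zero, halt]
    · rw [if_neg (not_lt.2 h.le), if_pos h, zero_add, hsymm]
  refine ⟨LinearMap.BilinMap.toQuadraticMap C, fun x y => ?_⟩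
  rw [LinearMap.BilinMap.polar_toQuadraticMap, ← hCB]
  rfl

theorem sq_inj (h2 : (2 : F) = 0) {a b : F} (h : a * a = b * b) : a = b := by
  have h1 : (a - b) * (a - b) = 0 := by linear_combination h + (b * b - a * b) * h2
  exact sub_eq_zero.1 (mul_self_eq_zero.1 h1)

theorem exists_cv [Finite F] [FiniteDimensional F V] (h2 : (2 : F) = 0) {Q₀ : QuadraticForm F V}
    (hQ₀ : ∀ u v, polar Q₀ u v = Φ.B u v) :
    Cv Φ (Q₀.prod (QuadraticMap.sq (R := F))) (LinearMap.fst F V F) (0, 1) where
  pol x y := by
    rw [QuadraticMap.polar_prod, hQ₀]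
    have : polar (QuadraticMap.sq (R := F)) x.2 y.2 = 0 := by
      simp only [polar, QuadraticMap.sq_apply]
      linear_combination (x.2 * y.2) * h2
    rw [this, add_zero]
    rfl
  ker x hx := by
    refine ⟨x.2, ?_⟩
    have hx' : x.1 = 0 := hx
    ext
    · simp [hx']
    · simp
  Qr := by simp
  pr := rfl
  lift v := by
    obtain ⟨c, hc⟩ := exists_sq h2 (Q₀ v)
    refine ⟨(v, c), rfl, ?_⟩
    rw [QuadraticMap.prod_apply, QuadraticMap.sq_apply]
    show Q₀ v + c * c = 0
    rw [← hc]
    linear_combination (Q₀ v) * h2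
  glift h hh := by
    have key : ∀ v, ∃ c : F, Q₀ v + Q₀ (h v) = c * c := fun v => exists_sq h2 _
    choose l hl using key
    have hadd : ∀ v w, l (v + w) = l v + l w := by
      intro v w
      apply sq_inj h2
      have e : h (v + w) = h v + h w := h.map_add v w
      rw [← hl, e, Q_add, Q_add, hQ₀, hQ₀, hh.1]
      linear_combination hl v + hl w + (Φ.B v w - l v * l w) * h2
    have hsmul : ∀ (c : F) v, l (c • v) = c * l v := by
      intro c v
      apply sq_inj h2
      have e : h (c • v) = c • h v := h.map_smul c v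
      rw [← hl, e, QuadraticMap.map_smul, QuadraticMap.map_smul, smul_eq_mul, smul_eq_mul]
      linear_combination (c * c) * hl v
    let f : V × F →ₗ[F] V × F :=
      { toFun := fun x => (h x.1, x.2 + l x.1)
        map_add' := fun x y => by
          ext
          · simp
          · simp only [Prod.fst_add, Prod.snd_add, hadd]
            ring
        map_smul' := fun c x => by
          ext
          · simp
          · simp only [Prod.smul_fst, Prod.smul_snd, hsmul, RingHom.id_apply, smul_eq_mul]
            ring }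
    have hf : ∀ x, f x = (h x.1, x.2 + l x.1) := fun _ => rfl
    have hinj : Function.Injective f := by
      rw [injective_iff_map_eq_zero]
      intro x hx
      rw [hf, Prod.mk_eq_zero] at hx
      have h1 : x.1 = 0 := h.injective (by rw [hx.1, map_zero])
      have h3 : l 0 = 0 := by
        have := hsmul 0 0
        rwa [zero_smul, zero_mul] at this
      have h4 := hx.2
      rw [h1, h3, add_zero] at h4
      exact Prod.ext h1 h4
    refine ⟨LinearEquiv.ofInjectiveEndo f hinj, fun x => ?_, fun x => ?_⟩
    · rw [LinearEquiv.coe_ofInjectiveEndo, hf, QuadraticMap.prod_apply, QuadraticMap.prod_apply,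
        QuadraticMap.sq_apply, QuadraticMap.sq_apply]
      show Q₀ (h x.1) + (x.2 + l x.1) * (x.2 + l x.1) = Q₀ x.1 + x.2 * x.2
      linear_combination -(hl x.1) + (Q₀ (h x.1) + x.2 * l x.1) * h2
    · rw [LinearEquiv.coe_ofInjectiveEndo, hf]
      rfl

/-- **UF1**, with dimension eight -/
theorem growth [Finite F] [FiniteDimensional F V] (hΦ : IsSp Φ) (h2 : (2 : F) = 0)
    (hH : H ≤ Φ.Iso) (hirr : IrrG H) {q : V → F} {W : Submodule F V} (hW : Φ.NdOn W) (hd : 8 ≤ finrank F W)
    (hS : HasS Φ q H W) :
    (∃ Q : QuadraticForm F V, (∀ u v, QuadraticMap.polar Q u v = Φ.B u v) ∧ E Q ≤ H) ∨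
      ∃ D : Submodule F V, Blk Φ H D ∧ 8 ≤ finrank F D := by
  obtain ⟨Q₀, hQ₀⟩ := exists_quad h2 (bil hΦ) (bil_alt hΦ)
  exact (exists_cv h2 hQ₀).main hΦ h2 hQ₀ hH hirr hW hd hS

end Cfsg.Agent.H709.UX
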